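import Cfsg.Agent.SylFix.Bound

/-!
# Consequences of the fixed-point bound
-/

set_option autoImplicit false

namespace CfsgLib.SylFix

open Subgroup
open scoped Pointwise

universe u v

variable {p : ℕ} [Fact p.Prime] {G : Type u} [Group G] [Finite G] {Ω : Type v} [Finite Ω]
  [MulAction G Ω]

theorem nat_bound {P : Subgroup G} {n : ℕ} (hn : (Set.univ : Set Ω).ncard = n)
    (h : 0 ≤ sigma p P (Set.univ : Set Ω)) :
    (2 * p - 1) * (fixS P : Set Ω).ncard ≤ (p - 1) * n := by
  have hp : 1 ≤ p := (Fact.out : p.Prime).one_le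
  rw [sigma, Set.univ_inter, hn, sub_nonneg] at h
  zify [hp, show 1 ≤ 2 * p by omega]
  exact h

/-- The Sylow subgroups of `G` inside `H` are the Sylow subgroups of `H`. -/
theorem card_sylow_le {H : Subgroup G} (P : Sylow p G) (hP : (P : Subgroup G) ≤ H) :
    Nat.card {Q : Sylow p G // (Q : Subgroup G) ≤ H} = Nat.card (Sylow p H) := by
  refine Nat.card_eq_of_bijective (fun Q => Q.1.subtype Q.2) ⟨?_, ?_⟩
  · rintro ⟨Q, hQ⟩ ⟨Q', hQ'⟩ h
    exact Subtype.ext (Sylow.subtype_injective h)
  · intro R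
    obtain ⟨h, hh⟩ := MulAction.exists_smul_eq H (P.subtype hP) R
    have hle : ((h : G) • P : Sylow p G).toSubgroup ≤ H := by
      intro g hg
      rw [coe_smul_cj, mem_cj] at hg
      simpa [mul_assoc] using mul_mem (mul_mem h.2 (hP hg)) (inv_mem h.2)
    exact ⟨⟨(h : G) • P, hle⟩, by rw [← hh]; exact (Sylow.smul_subtype hP h).symm⟩

/-- Double counting of Sylow subgroups and the points they fix. -/
theorem card_count [MulAction.IsPretransitive G Ω] (x : Ω) (P : Sylow p G) :
    Nat.card (Sylow p G) * (fixS (P : Subgroup G) : Set Ω).ncard =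
      Nat.card Ω * Nat.card {Q : Sylow p G // x ∈ fixS (Q : Subgroup G)} := by
  have h1 : ∀ Q : Sylow p G, Nat.card {a : Ω // a ∈ fixS (Q : Subgroup G)} =
      (fixS (P : Subgroup G) : Set Ω).ncard := by
    intro Q
    obtain ⟨g, rfl⟩ := MulAction.exists_smul_eq G P Q
    rw [← Nat.card_coe_set_eq]
    refine Nat.card_congr ((MulAction.toPerm g⁻¹).subtypeEquiv fun a => ?_)
    rw [coe_smul_cj]
    exact fixS_cj g _
  have h2 : ∀ a : Ω, Nat.card {Q : Sylow p G // a ∈ fixS (Q : Subgroup G)} =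
      Nat.card {Q : Sylow p G // x ∈ fixS (Q : Subgroup G)} := by
    intro a
    obtain ⟨g, rfl⟩ := MulAction.exists_smul_eq G x a
    refine Nat.card_congr ((MulAction.toPerm g⁻¹).subtypeEquiv fun Q => ?_)
    rw [MulAction.toPerm_apply, coe_smul_cj, fixS_cj, inv_inv]
  let e : (Σ Q : Sylow p G, {a : Ω // a ∈ fixS (Q : Subgroup G)}) ≃
      (Σ a : Ω, {Q : Sylow p G // a ∈ fixS (Q : Subgroup G)}) :=
    { toFun := fun z => ⟨z.2.1, z.1, z.2.2⟩
      invFun := fun z => ⟨z.2.1, z.1, z.2.2⟩
      left_inv := fun _ => rfl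
      right_inv := fun _ => rfl }
  have h3 := Nat.card_congr e
  classical
  have := Fintype.ofFinite Ω
  have := Fintype.ofFinite (Sylow p G)
  rw [Nat.card_sigma, Nat.card_sigma] at h3
  simp only [h1, h2, Finset.sum_const, Finset.card_univ, smul_eq_mul] at h3
  rwa [Nat.card_eq_fintype_card, Nat.card_eq_fintype_card (α := Ω)]

theorem sylow_number_bound (hgen : pgen p (⊤ : Subgroup G) = ⊤) (H : Subgroup G) (hH : H ≠ ⊤)
    (P : Sylow p G) (hP : (P : Subgroup G) ≤ H) :
    (2 * p - 1) * Nat.card (Sylow p H) ≤ (p - 1) * Nat.card (Sylow p G) := by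
  have h2 : 2 ≤ Nat.card (G ⧸ H) := by
    have h0 : H.index ≠ 0 := FiniteIndex.index_ne_zero
    have h1 : H.index ≠ 1 := fun h => hH (Subgroup.index_eq_one.1 h)
    rw [← Subgroup.index_eq_card]; omega
  have hb := nat_bound (n := Nat.card (G ⧸ H)) (Set.ncard_univ _)
    (bound (p := p) _ G (G ⧸ H) inferInstance rfl h2 hgen P)
  have hset : Nat.card {Q : Sylow p G // ((1 : G) : G ⧸ H) ∈ fixS (Q : Subgroup G)} =
      Nat.card (Sylow p H) := by
    rw [← card_sylow_le P hP]
    refine Nat.card_congr (Equiv.subtypeEquivRight fun Q => ?_)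
    refine forall₂_congr fun k _ => ?_
    rw [MulAction.Quotient.smul_coe, smul_eq_mul, mul_one, QuotientGroup.eq]
    simp
  have hc := card_count ((1 : G) : G ⧸ H) P
  rw [hset] at hc
  have hn : 0 < Nat.card (G ⧸ H) := by omega
  refine Nat.le_of_mul_le_mul_left ?_ hn
  calc Nat.card (G ⧸ H) * ((2 * p - 1) * Nat.card (Sylow p H))
      = Nat.card (Sylow p G) * ((2 * p - 1) * (fixS (P : Subgroup G) : Set (G ⧸ H)).ncard) := by
        rw [mul_left_comm, ← hc, mul_left_comm]
    _ ≤ Nat.card (Sylow p G) * ((p - 1) * Nat.card (G ⧸ H)) := Nat.mul_le_mul_left _ hb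
    _ = _ := by ring

/-- A `p`-group has few orbits compared to its fixed points. -/
theorem orbits_le {P : Subgroup G} (hP : IsPGroup p P) :
    p * Nat.card (MulAction.orbitRel.Quotient P Ω) ≤
      Nat.card Ω + (p - 1) * (fixS P : Set Ω).ncard := by
  classical
  have := Fintype.ofFinite Ω
  have := Fintype.ofFinite (MulAction.orbitRel.Quotient P Ω)
  let π : Ω → MulAction.orbitRel.Quotient P Ω := Quotient.mk''
  have hp : 1 ≤ p := (Fact.out : p.Prime).one_le
  have key : ∀ q : MulAction.orbitRel.Quotient P Ω, p ≤ {a | π a = q}.ncard +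
      (p - 1) * ({a | π a = q} ∩ fixS P).ncard := by
    intro q
    induction q using Quotient.inductionOn' with
    | _ x =>
    have hfib : {a | π a = (Quotient.mk'' x : MulAction.orbitRel.Quotient P Ω)} =
        MulAction.orbit P x := by
      ext a
      exact Quotient.eq''.trans MulAction.orbitRel_apply
    rw [hfib]
    by_cases hx : x ∈ fixS P
    · have h1 : 0 < (MulAction.orbit P x ∩ fixS P).ncard :=
        (Set.ncard_pos).2 ⟨x, MulAction.mem_orbit_self x, hx⟩
      have h2 : 0 < (MulAction.orbit P x).ncard :=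
        (Set.ncard_pos).2 ⟨x, MulAction.mem_orbit_self x⟩
      calc p = 1 + (p - 1) * 1 := by omega
        _ ≤ _ := Nat.add_le_add h2 (Nat.mul_le_mul_left _ h1)
    · obtain ⟨k, hk⟩ := hP.card_orbit x
      rw [Nat.card_coe_set_eq] at hk
      rcases k with _ | k
      · exfalso
        refine hx fun g hg => ?_
        obtain ⟨a, ha⟩ := Set.ncard_eq_one.1 (hk.trans (pow_zero p))
        have h1 : g • x ∈ MulAction.orbit P x := ⟨⟨g, hg⟩, rfl⟩
        have h2 := MulAction.mem_orbit_self (M := P) x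
        rw [ha, Set.mem_singleton_iff] at h1 h2
        rw [h1, h2]
      · rw [hk]
        exact (Nat.le_self_pow (Nat.succ_ne_zero k) p).trans (Nat.le_add_right _ _)
  have h1 := Finset.sum_le_sum (s := Finset.univ) fun q _ => key q
  rw [Finset.sum_const, Finset.card_univ, smul_eq_mul, Finset.sum_add_distrib, ← Finset.mul_sum,
    mul_comm, ← Nat.card_eq_fintype_card] at h1
  have hA : ∀ A : Set Ω, ∑ q, ({a | π a = q} ∩ A).ncard = A.ncard := by
    intro A
    rw [Set.ncard_eq_toFinset_card' A, Finset.card_eq_sum_card_fiberwise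
      (f := π) (t := Finset.univ) (fun _ _ => Finset.mem_univ _)]
    refine Finset.sum_congr rfl fun q _ => ?_
    rw [Set.ncard_eq_toFinset_card']
    congr 1
    ext a; simp [and_comm]
  have hU := hA Set.univ
  simp only [Set.inter_univ, Set.ncard_univ] at hU
  rwa [hA, hU] at h1

theorem orbit_bound [FaithfulSMul G Ω] (htr : MulAction.IsPretransitive G Ω)
    (hpG : p ∣ Nat.card G) (P : Sylow p G) :
    (2 * p - 1) * Nat.card (MulAction.orbitRel.Quotient (P : Subgroup G) Ω) ≤
      p * Nat.card Ω := by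
  have hp : 1 ≤ p := (Fact.out : p.Prime).one_le
  have hP : (P : Subgroup G) ≤ pgen p (⊤ : Subgroup G) := le_pgen P.2 le_top
  have hnorm : ∀ g : G, cj g (pgen p (⊤ : Subgroup G)) = pgen p (⊤ : Subgroup G) := fun g => by
    rw [← pgen_cj]; congr 1; ext a; simp [mem_cj]
  have hnofix : ∀ a : Ω, a ∉ fixS (pgen p (⊤ : Subgroup G)) := by
    intro a ha
    refine P.ne_bot_of_dvd_card hpG ((Subgroup.eq_bot_iff_forall _).2 fun z hz => ?_)
    refine FaithfulSMul.eq_of_smul_eq_smul fun b : Ω => ?_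
    obtain ⟨g, rfl⟩ := htr.exists_smul_eq a b
    have h1 : a ∈ fixS (pgen p (⊤ : Subgroup G)) := ha
    rw [one_smul]
    have h2 : g • a ∈ fixS (cj g (pgen p (⊤ : Subgroup G))) := (fixS_cj g _).2 (by simpa using h1)
    rw [hnorm] at h2
    exact h2 z (hP hz)
  have hb := nat_bound (n := Nat.card Ω) (Set.ncard_univ _) (nonneg ((Set.univ : Set Ω).ncard + 1)
    (fun m _ => bound m) P hP (fun _ _ _ _ => trivial) (fun s _ => hnofix s) (Nat.lt_succ_self _))
  have ho := orbits_le (Ω := Ω) (P.2 : IsPGroup p (P : Subgroup G))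
  refine Nat.le_of_mul_le_mul_left ?_ (show 0 < p by omega)
  calc p * ((2 * p - 1) * Nat.card (MulAction.orbitRel.Quotient (P : Subgroup G) Ω))
      = (2 * p - 1) * (p * Nat.card (MulAction.orbitRel.Quotient (P : Subgroup G) Ω)) := by ring
    _ ≤ (2 * p - 1) * (Nat.card Ω + (p - 1) * (fixS (P : Subgroup G) : Set Ω).ncard) :=
        Nat.mul_le_mul_left _ ho
    _ = (2 * p - 1) * Nat.card Ω +
        (p - 1) * ((2 * p - 1) * (fixS (P : Subgroup G) : Set Ω).ncard) := by ring
    _ ≤ (2 * p - 1) * Nat.card Ω + (p - 1) * ((p - 1) * Nat.card Ω) :=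
        Nat.add_le_add_left (Nat.mul_le_mul_left _ hb) _
    _ = p * (p * Nat.card Ω) := by
        obtain ⟨k, rfl⟩ : ∃ k, p = k + 1 := ⟨p - 1, by omega⟩
        simp only [Nat.add_sub_cancel]
        rw [show 2 * (k + 1) - 1 = 2 * k + 1 by omega]
        ring

end CfsgLib.SylFix
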