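import Cfsg.Agent.SylFix.Basic

/-!
# Points fixed by a Sylow subgroup of a transitive group generated by its `p`-elements

If `G` is transitive on `n ≥ 2` points and generated by its `p`-elements, then a Sylow
`p`-subgroup fixes at most `(p - 1) / (2 p - 1) * n` points.
-/

set_option autoImplicit false

namespace CfsgLib.SylFix

open Subgroup
open scoped Pointwise

universe u v

/-- The bound in degree `m`. -/
def Bound (p : ℕ) [Fact p.Prime] (m : ℕ) : Prop :=
  ∀ (G : Type u) [Group G] [Finite G] (Ω : Type v) [Finite Ω] [MulAction G Ω],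
    MulAction.IsPretransitive G Ω → Nat.card Ω = m → 2 ≤ m →
      pgen p (⊤ : Subgroup G) = ⊤ →
      ∀ P : Sylow p G, 0 ≤ sigma p (P : Subgroup G) (Set.univ : Set Ω)

variable {p : ℕ} [Fact p.Prime] {G : Type u} [Group G] [Finite G] {Ω : Type v} [Finite Ω]
  [MulAction G Ω]

theorem sigma_of_subset_fix {P : Subgroup G} {S : Set Ω} (h : S ⊆ fixS P) :
    sigma p P S = -((p : ℤ) * S.ncard) := by
  rw [sigma, Set.inter_eq_self_of_subset_left h]; ring

theorem coe_smul_cj (k : G) (P : Sylow p G) :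
    ((k • P : Sylow p G) : Subgroup G) = cj k (P : Subgroup G) := rfl

theorem inter_fixS_cj {K : Subgroup G} {U : Set Ω} (hU : Inv K U) {k : G} (hk : k ∈ K)
    (L : Subgroup G) : U ∩ fixS (cj k L) = (fun ω => k • ω) '' (U ∩ fixS L) := by
  ext ω
  constructor
  · rintro ⟨hω, hfix⟩
    exact ⟨k⁻¹ • ω, ⟨hU _ (inv_mem hk) _ hω, (fixS_cj k _).1 hfix⟩, smul_inv_smul _ _⟩
  · rintro ⟨a, ⟨ha, hfix⟩, rfl⟩
    exact ⟨hU _ hk _ ha, (fixS_cj k _).2 (by rwa [inv_smul_smul])⟩

theorem mem_normalizer_of_cj {z : G} {L : Subgroup G} (e : cj z L = L) :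
    z ∈ normalizer (L : Set G) := by
  rw [mem_normalizer_iff]
  intro h
  have h1 : z * h * z⁻¹ ∈ cj z L ↔ h ∈ L := by simp [mem_cj, mul_assoc]
  rw [e] at h1
  exact h1.symm

theorem cj_injective (k : G) : Function.Injective (cj k : Subgroup G → Subgroup G) := by
  intro A B h
  have := congrArg (cj k⁻¹) h
  rwa [← cj_mul, ← cj_mul, inv_mul_cancel, cj_one, cj_one] at this

/-- A `p`-element not normalizing `L` conjugates it to `p` different subgroups. -/
theorem eq_of_cj_pow {z : G} {L : Subgroup G} (hz : ∃ m, orderOf z = p ^ m) (hzL : cj z L ≠ L)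
    {i j : ℕ} (hi : i < p) (hj : j < p) (h : cj (z ^ i) L = cj (z ^ j) L) : i = j := by
  obtain ⟨m, hm⟩ := hz
  suffices key : ∀ i j, i < j → j < p → cj (z ^ i) L ≠ cj (z ^ j) L by
    rcases lt_trichotomy i j with hij | hij | hij
    · exact absurd h (key i j hij hj)
    · exact hij
    · exact absurd h.symm (key j i hij hi)
  intro i j hij hj h
  have e : cj (z ^ (j - i)) L = L := by
    refine cj_injective (z ^ i) ?_
    rw [← cj_mul, ← pow_add, Nat.add_sub_cancel' hij.le, h]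
  have hc : Nat.Coprime (j - i) (orderOf z) := by
    rw [hm]
    refine Nat.Coprime.pow_right _ (Nat.Coprime.symm ?_)
    exact ((Fact.out : p.Prime).coprime_iff_not_dvd).2
      (Nat.not_dvd_of_pos_of_lt (by omega) (by omega))
  obtain ⟨a, ha⟩ := exists_pow_eq_self_of_coprime hc
  have hN : z ∈ normalizer (L : Set G) := ha ▸ pow_mem (mem_normalizer_of_cj e) a
  refine hzL (Subgroup.ext fun g => ?_)
  rw [mem_cj]
  exact ⟨fun hg => by
      have := (mem_normalizer_iff.1 hN _).1 hg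
      simpa [mul_assoc] using this,
    fun hg => (mem_normalizer_iff.1 hN _).2 (by simpa [mul_assoc] using hg)⟩

/-- An invariant set without fixed points of a group generated by `p`-elements. -/
theorem nonneg (N : ℕ) (IH : ∀ m < N, Bound.{u, v} p m) {H : Subgroup G} (P : Sylow p G)
    (hP : (P : Subgroup G) ≤ pgen p H) {S : Set Ω} (hS : Inv (pgen p H) S)
    (hfix : ∀ s ∈ S, s ∉ fixS (pgen p H)) (hN : S.ncard < N) :
    0 ≤ sigma p (P : Subgroup G) S := by
  induction hk : S.ncard using Nat.strong_induction_on generalizing S with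
  | _ k ih =>
    rcases S.eq_empty_or_nonempty with rfl | ⟨ω, hω⟩
    · simp [sigma]
    have hOS : MulAction.orbit (pgen p H) ω ⊆ S := by
      rintro _ ⟨l, rfl⟩; exact hS _ l.2 _ hω
    have hOinv : Inv (pgen p H) (MulAction.orbit (pgen p H) ω) := by
      rintro l hl _ ⟨l', rfl⟩
      exact ⟨⟨l, hl⟩ * l', mul_smul _ _ _⟩
    have h2 : 2 ≤ Nat.card (MulAction.orbit (pgen p H) ω) := by
      have : Nontrivial (MulAction.orbit (pgen p H) ω) := by
        obtain ⟨l, hl, hne⟩ : ∃ l ∈ pgen p H, l • ω ≠ ω := by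
          simpa [mem_fixS] using hfix ω hω
        exact ⟨⟨ω, MulAction.mem_orbit_self ω⟩, ⟨l • ω, ⟨⟨l, hl⟩, rfl⟩⟩,
          fun e => hne (congrArg Subtype.val e).symm⟩
      exact Finite.one_lt_card
    have hle : (MulAction.orbit (pgen p H) ω).ncard ≤ S.ncard := Set.ncard_le_ncard hOS
    have key := IH _ (lt_of_le_of_lt hle hN) (pgen p H) (MulAction.orbit (pgen p H) ω)
      inferInstance (Nat.card_coe_set_eq _) (Nat.card_coe_set_eq _ ▸ h2) (pgen_gen H)
      (P.subtype hP)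
    have himg : Subtype.val '' ((Set.univ : Set (MulAction.orbit (pgen p H) ω)) ∩
        fixS ((P.subtype hP : Sylow p (pgen p H)) : Subgroup (pgen p H))) =
        MulAction.orbit (pgen p H) ω ∩ fixS (P : Subgroup G) := by
      ext a
      constructor
      · rintro ⟨⟨b, hb⟩, ⟨-, hf⟩, rfl⟩
        exact ⟨hb, fun g hg => congrArg Subtype.val (hf ⟨g, hP hg⟩ hg)⟩
      · rintro ⟨ha, hf⟩
        exact ⟨⟨a, ha⟩, ⟨trivial, fun g hg => Subtype.ext (hf g hg)⟩, rfl⟩
    have hO : 0 ≤ sigma p (P : Subgroup G) (MulAction.orbit (pgen p H) ω) := by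
      simp only [sigma, Set.ncard_univ, Nat.card_coe_set_eq] at key
      rwa [← Set.ncard_image_of_injective _ Subtype.val_injective, himg] at key
    have hlt : (S \ MulAction.orbit (pgen p H) ω).ncard < S.ncard :=
      Set.ncard_lt_ncard ((Set.ssubset_iff_of_subset Set.sdiff_subset).2
        ⟨ω, hω, fun h => h.2 (MulAction.mem_orbit_self ω)⟩)
    have hrest := ih _ (hk ▸ hlt) (hS.diff hOinv) (fun s hs => hfix s hs.1) (hlt.trans hN) rfl
    rw [sigma_diff _ hOS] at hrest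
    linarith

variable (p G) in
/-- Some Sylow subgroup fixes all of `T`. -/
def Joint (T : Set Ω) : Prop := ∃ P : Sylow p G, (P : Subgroup G) ≤ flatGrp p G T

variable (p G) in
/-- The invariant of the induction. -/
def Good (O T : Set Ω) : Prop :=
  Joint p G T ∧ T ⊆ O ∧ ∀ γ ∈ O, γ ∉ fixS (flatGrp p G T) →
    ∃ U : Set Ω, γ ∈ U ∧ Inv (flatGrp p G T) U ∧ Joint p G (insert γ T) ∧
      (∀ δ ∈ U, ∃ k ∈ flatGrp p G T,
        flatGrp p G (insert δ T) = cj k (flatGrp p G (insert γ T))) ∧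
      ∀ P : Sylow p G, (P : Subgroup G) ≤ flatGrp p G T →
        sigma p (P : Subgroup G) U <
          (T.ncard : ℤ) * p * (U ∩ fixS (flatGrp p G (insert γ T))).ncard

/-- Adding one point to a good set. -/
theorem good_step (IH : ∀ m < Nat.card Ω, Bound.{u, v} p m) {O T : Set Ω}
    (hO : ¬ Joint p G O) (hT : Good p G O T) (hcard : T.ncard + 2 ≤ p) :
    ∃ T', Good p G O T' ∧ T'.ncard = T.ncard + 1 := by
  obtain ⟨⟨P0, hP0⟩, hTO, hgood⟩ := hT
  obtain ⟨β, ⟨hβO, hβ⟩, hmax⟩ :=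
    Set.exists_max_image {γ | γ ∈ O ∧ γ ∉ fixS (flatGrp p G T)}
      (fun γ => Nat.card (flatGrp p G (insert γ T))) (Set.toFinite _) (by
        by_contra hne
        refine hO ⟨P0, hP0.trans (flatGrp_le_of_fix fun a ha => ?_)⟩
        by_contra ha'
        exact hne ⟨a, ha, ha'⟩)
  have hβT : β ∉ T := fun h => hβ (subset_fix_flatGrp T h)
  have hT'T : T ⊆ insert β T := Set.subset_insert β T
  have hKK : flatGrp p G (insert β T) ≤ flatGrp p G T := flatGrp_anti hT'T
  have hncard : (insert β T).ncard = T.ncard + 1 := Set.ncard_insert_of_notMem hβT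
  refine ⟨insert β T, ⟨?_, Set.insert_subset hβO hTO, ?_⟩, hncard⟩
  · obtain ⟨U, -, -, hj, -⟩ := hgood β hβO hβ
    exact hj
  intro γ hγO hγ
  have hγ0 : γ ∉ fixS (flatGrp p G T) := fun h => hγ (fixS_anti hKK h)
  obtain ⟨U, hγU, hU, hjoint, hcon, hsig⟩ := hgood γ hγO hγ0
  set K' := flatGrp p G (insert β T) with hK'
  set L := flatGrp p G (insert γ T) with hL
  set e := (U ∩ fixS L).ncard with he
  -- the points of `U` fixed by `K'`
  have hZeq : ∀ δ ∈ U, δ ∈ fixS K' → flatGrp p G (insert δ T) = K' := by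
    intro δ hδ hfix
    have hle : K' ≤ flatGrp p G (insert δ T) :=
      flatGrp_le_of_fix (Set.insert_subset hfix (hT'T.trans (subset_fix_flatGrp _)))
    refine (Subgroup.eq_of_le_of_card_ge hle ?_).symm
    obtain ⟨k, -, hk⟩ := hcon δ hδ
    rw [hk, card_cj]
    exact hmax γ ⟨hγO, hγ0⟩
  have hZle : (U ∩ fixS K').ncard ≤ e := by
    rcases (U ∩ fixS K').eq_empty_or_nonempty with h | ⟨δ, hδ, hfix⟩
    · simp [h]
    · obtain ⟨k, hk, hk'⟩ := hcon δ hδ
      rw [hZeq δ hδ hfix] at hk'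
      rw [hk', inter_fixS_cj hU hk, Set.ncard_image_of_injective _ (MulAction.injective k)]
  set W := U \ (U ∩ fixS K') with hW
  have hW' : ∀ δ ∈ W, δ ∈ U ∧ δ ∉ fixS K' := fun δ hδ => ⟨hδ.1, fun h => hδ.2 ⟨hδ.1, h⟩⟩
  have hWinv : Inv K' W := (hU.mono hKK).diff fun k hk s hs =>
    ⟨hU k (hKK hk) s hs.1, inv_fixS K' k hk s hs.2⟩
  have hWlt : W.ncard < Nat.card Ω := by
    rw [← Set.ncard_univ]
    exact Set.ncard_lt_ncard ((Set.ssubset_iff_of_subset (Set.subset_univ _)).2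
      ⟨β, trivial, fun h => (hW' β h).2 (subset_fix_flatGrp _ (Set.mem_insert β T))⟩)
  have hWsig : ∀ P : Sylow p G, (P : Subgroup G) ≤ K' →
      sigma p (P : Subgroup G) W < ((T.ncard : ℤ) + 1) * p * e := by
    intro P hP
    have h1 := hsig P (hP.trans hKK)
    have h2 : ((U ∩ fixS K').ncard : ℤ) ≤ e := by exact_mod_cast hZle
    rw [hW, sigma_diff _ Set.inter_subset_left,
      sigma_of_subset_fix (Set.inter_subset_right.trans (fixS_anti hP))]
    nlinarith [mul_le_mul_of_nonneg_left h2 (Int.natCast_nonneg p)]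
  have hpart : ∀ S ⊆ W, Inv K' S → ∀ P : Sylow p G, (P : Subgroup G) ≤ K' →
      sigma p (P : Subgroup G) S ≤ sigma p (P : Subgroup G) W := by
    intro S hS hSinv P hP
    have := nonneg (Nat.card Ω) IH P hP (hWinv.diff hSinv) (fun s hs => (hW' s hs.1).2)
      (lt_of_le_of_lt (Set.ncard_le_ncard Set.sdiff_subset) hWlt)
    rw [sigma_diff _ hS] at this
    linarith
  have hEW : ∀ δ ∈ U ∩ fixS L, δ ∈ W ∧ flatGrp p G (insert δ T) = L := by
    intro δ hδ
    have heq : flatGrp p G (insert δ T) = L := by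
      refine (Subgroup.eq_of_le_of_card_ge (flatGrp_le_of_fix
        (Set.insert_subset hδ.2 ((Set.subset_insert γ T).trans (subset_fix_flatGrp _)))) ?_).symm
      obtain ⟨k, -, hk⟩ := hcon δ hδ.1
      rw [hk, card_cj]
    refine ⟨⟨hδ.1, fun h => hγ ?_⟩, heq⟩
    rw [show K' = L from (hZeq δ hδ.1 h.2).symm.trans heq]
    exact subset_fix_flatGrp _ (Set.mem_insert γ T)
  have hfixT : ∀ k ∈ K', ∀ a ∈ T, k • a = a := fun k hk a ha =>
    subset_fix_flatGrp T ha k (hKK hk)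
  have hfixT' : ∀ k ∈ K', ∀ a ∈ insert β T, k • a = a := fun k hk a ha =>
    subset_fix_flatGrp _ ha k hk
  have hγW : γ ∈ W := (hEW γ ⟨hγU, subset_fix_flatGrp _ (Set.mem_insert γ T)⟩).1
  by_cases hj : Joint p G (insert γ (insert β T))
  · set L' := flatGrp p G (insert γ (insert β T)) with hL'
    refine ⟨{δ | δ ∈ W ∧ ∃ k ∈ K', flatGrp p G (insert δ (insert β T)) = cj k L'},
      ⟨hγW, 1, one_mem _, (cj_one _).symm⟩, ?_, hj, fun δ hδ => hδ.2, ?_⟩
    · rintro k hk δ ⟨hδ, l, hl, hl'⟩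
      exact ⟨hWinv k hk δ hδ, k * l, mul_mem hk hl, by
        rw [flatGrp_insert_smul k (hfixT' k hk), hl', cj_mul]⟩
    intro P hP
    have h1 := hWsig P hP
    have h2 : sigma p (P : Subgroup G)
        {δ | δ ∈ W ∧ ∃ k ∈ K', flatGrp p G (insert δ (insert β T)) = cj k L'} ≤
          sigma p (P : Subgroup G) W := by
      refine hpart _ (fun δ hδ => hδ.1) ?_ P hP
      rintro k hk δ ⟨hδ, l, hl, hl'⟩
      exact ⟨hWinv k hk δ hδ, k * l, mul_mem hk hl, by
        rw [flatGrp_insert_smul k (hfixT' k hk), hl', cj_mul]⟩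
    have hLL : L' ≤ L := flatGrp_anti (Set.insert_subset_insert hT'T)
    have h3 : (e : ℤ) ≤ ({δ | δ ∈ W ∧ ∃ k ∈ K', flatGrp p G (insert δ (insert β T)) = cj k L'} ∩
        fixS L').ncard := by
      rw [he]
      norm_cast
      refine Set.ncard_le_ncard fun δ hδ => ?_
      obtain ⟨hδW, heq⟩ := hEW δ hδ
      refine ⟨⟨hδW, 1, one_mem _, ?_⟩, fixS_anti hLL hδ.2⟩
      rw [cj_one]
      refine le_antisymm (flatGrp_le_of_fix (Set.insert_subset ?_
        ((Set.subset_insert δ _).trans (subset_fix_flatGrp _)))) (flatGrp_le_of_fix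
        (Set.insert_subset (fixS_anti hLL hδ.2) ((Set.subset_insert γ _).trans
          (subset_fix_flatGrp _))))
      have hle : flatGrp p G (insert δ (insert β T)) ≤ L :=
        (flatGrp_anti (Set.insert_subset_insert hT'T)).trans heq.le
      exact fixS_anti hle (subset_fix_flatGrp _ (Set.mem_insert γ T))
    rw [hncard]
    push_cast
    have h4 := mul_le_mul_of_nonneg_left h3
      (show (0 : ℤ) ≤ ((T.ncard : ℤ) + 1) * p by positivity)
    linarith
  · exfalso
    obtain ⟨Ub, -, -, ⟨P, hP⟩, -⟩ := hgood β hβO hβ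
    set S := {δ | δ ∈ W ∧ ∃ k ∈ K', flatGrp p G (insert δ T) = cj k L} with hS
    have hSinv : Inv K' S := by
      rintro k hk δ ⟨hδ, l, hl, hl'⟩
      exact ⟨hWinv k hk δ hδ, k * l, mul_mem hk hl, by
        rw [flatGrp_insert_smul k (hfixT k hk), hl', cj_mul]⟩
    have hjoin : ∀ (Q : Sylow p G), (Q : Subgroup G) ≤ K' → (Q : Subgroup G) ≤ L → False := by
      intro Q hQ hQL
      refine hj ⟨Q, le_flatGrp Q.2 (Set.insert_subset ?_
        (fun a ha g hg => hfixT' g (hQ hg) a ha))⟩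
      exact fixS_anti hQL (subset_fix_flatGrp _ (Set.mem_insert γ T))
    have hSfix : S ∩ fixS (P : Subgroup G) = ∅ := by
      rw [Set.eq_empty_iff_forall_notMem]
      rintro δ ⟨⟨-, k, hk, hk'⟩, hδ⟩
      have hPd : (P : Subgroup G) ≤ cj k L := hk' ▸ le_flatGrp P.2
        (Set.insert_subset hδ fun a ha g hg => hfixT g (hP hg) a ha)
      refine hjoin (k⁻¹ • P) ?_ ?_
      · intro g hg
        rw [coe_smul_cj, mem_cj, inv_inv] at hg
        simpa [mul_assoc] using mul_mem (mul_mem (inv_mem hk) (hP hg)) hk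
      · intro g hg
        rw [coe_smul_cj, mem_cj, inv_inv] at hg
        simpa [mul_assoc] using mem_cj.1 (hPd hg)
    obtain ⟨z, hzP, hz⟩ : ∃ z ∈ (P : Subgroup G), cj z L ≠ L := by
      by_contra! hall
      obtain ⟨Q, hQ⟩ := hjoint
      exact hjoin P hP (le_of_normalizes Q hQ P.2 fun z hz => mem_normalizer_of_cj (hall z hz))
    have hzp : ∃ m, orderOf z = p ^ m := by
      obtain ⟨m, hm⟩ := (IsPGroup.iff_orderOf.1 P.2) ⟨z, hzP⟩
      exact ⟨m, by rwa [← Subgroup.orderOf_coe] at hm⟩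
    have hES : ∀ δ ∈ U ∩ fixS L, δ ∈ S := fun δ hδ =>
      ⟨(hEW δ hδ).1, 1, one_mem _, by rw [cj_one, (hEW δ hδ).2]⟩
    have hzS : ∀ (i : ℕ), ∀ δ ∈ U ∩ fixS L, z ^ i • δ ∈ S := fun i δ hδ =>
      hSinv _ (pow_mem (hP hzP) i) _ (hES δ hδ)
    have hmul : p * e ≤ S.ncard := by
      have hinj : Function.Injective
          (fun x : Fin p × ↥(U ∩ fixS L) => (⟨z ^ (x.1 : ℕ) • x.2.1, hzS _ _ x.2.2⟩ : S)) := by
        rintro ⟨i, δ⟩ ⟨j, δ'⟩ h
        have h' : z ^ (i : ℕ) • δ.1 = z ^ (j : ℕ) • δ'.1 := congrArg Subtype.val h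
        have h'' : cj (z ^ (i : ℕ)) L = cj (z ^ (j : ℕ)) L := by
          have e1 := flatGrp_insert_smul (p := p) _ (hfixT _ (pow_mem (hP hzP) i)) δ.1
          have e2 := flatGrp_insert_smul (p := p) _ (hfixT _ (pow_mem (hP hzP) j)) δ'.1
          rw [(hEW _ δ.2).2, h', e2, (hEW _ δ'.2).2] at e1
          exact e1.symm
        have hij : i = j := Fin.ext (eq_of_cj_pow hzp hz i.2 j.2 h'')
        subst hij
        exact Prod.ext rfl (Subtype.ext (smul_left_cancel _ h'))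
      have := Nat.card_le_card_of_injective _ hinj
      rwa [Nat.card_prod, Nat.card_fin, Nat.card_coe_set_eq, Nat.card_coe_set_eq] at this
    have h1 := hWsig P hP
    have h2 := hpart S (fun δ hδ => hδ.1) hSinv P hP
    have h3 : sigma p (P : Subgroup G) S = ((p : ℤ) - 1) * S.ncard := by
      rw [sigma, hSfix, Set.ncard_empty]; simp
    have h4 : (p : ℤ) * e ≤ S.ncard := by exact_mod_cast hmul
    have h5 : (T.ncard : ℤ) + 2 ≤ p := by exact_mod_cast hcard
    have h6 : (0 : ℤ) ≤ (p : ℤ) * e := by positivity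
    nlinarith [mul_le_mul_of_nonneg_left h4 (show (0 : ℤ) ≤ (p : ℤ) - 1 by linarith),
      mul_le_mul_of_nonneg_right (show (T.ncard : ℤ) + 1 ≤ (p : ℤ) - 1 by linarith) h6]

/-- The set on which a `p`-element acts as a cycle of length `p`. -/
theorem exists_cycle {g : G} {ω : Ω} (hg : ∃ k : ℕ, g ^ p ^ k = 1) (hω : g • ω ≠ ω) :
    ∃ y : G, (∃ k : ℕ, y ^ p ^ k = 1) ∧ y • ω ≠ ω ∧ y ^ p • ω = ω := by
  classical
  obtain ⟨k, hk⟩ := hg
  have hex : ∃ j : ℕ, g ^ p ^ j • ω = ω := ⟨k, by rw [hk, one_smul]⟩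
  have hj := Nat.find_spec hex
  have hj0 : Nat.find hex ≠ 0 := fun h => hω (by simpa [h] using hj)
  refine ⟨g ^ p ^ (Nat.find hex - 1), ⟨k, ?_⟩, Nat.find_min hex (by omega), ?_⟩
  · rw [← pow_mul, mul_comm, pow_mul, hk, one_pow]
  · rw [← pow_mul, ← pow_succ, Nat.sub_add_cancel (Nat.one_le_iff_ne_zero.2 hj0)]
    exact hj

/-- No Sylow subgroup fixes such a cycle pointwise. -/
theorem not_joint_cycle {y : G} {ω : Ω} (hy : ∃ k : ℕ, y ^ p ^ k = 1) (hω : y • ω ≠ ω)
    (hyp : y ^ p • ω = ω) :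
    ¬ Joint p G ((fun i : ℕ => y ^ i • ω) '' Set.Iio p) := by
  set O := (fun i : ℕ => y ^ i • ω) '' Set.Iio p with hO
  have hp2 : 2 ≤ p := (Fact.out : p.Prime).two_le
  have hfwd : ∀ a ∈ O, y • a ∈ O := by
    rintro _ ⟨i, hi, rfl⟩
    rcases Nat.lt_or_ge (i + 1) p with h | h
    · exact ⟨i + 1, h, by simp [pow_succ', mul_smul]⟩
    · refine ⟨0, by simp; omega, ?_⟩
      have : i + 1 = p := le_antisymm (Set.mem_Iio.1 hi) h
      simp [← mul_smul, ← pow_succ', this, hyp]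
  have hbwd : ∀ a ∈ O, ∃ b ∈ O, y • b = a := by
    rintro _ ⟨i, hi, rfl⟩
    rcases i with _ | i
    · refine ⟨y ^ (p - 1) • ω, ⟨p - 1, by simp; omega, rfl⟩, ?_⟩
      simp [← mul_smul, ← pow_succ', Nat.sub_add_cancel (by omega : 1 ≤ p), hyp]
    · exact ⟨y ^ i • ω, ⟨i, Nat.lt_of_succ_lt (Set.mem_Iio.1 hi), rfl⟩,
        by simp [← mul_smul, ← pow_succ']⟩
  rintro ⟨P, hP⟩
  have hcj : cj y (fixingSubgroup G O) = fixingSubgroup G O := by
    ext g
    simp only [mem_cj, mem_fixingSubgroup_iff, mul_smul, inv_smul_eq_iff]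
    exact ⟨fun h a ha => by obtain ⟨b, hb, rfl⟩ := hbwd a ha; exact h b hb,
      fun h a ha => h _ (hfwd a ha)⟩
  have hyN : y ∈ normalizer (flatGrp p G O : Set G) :=
    mem_normalizer_of_cj (by rw [flatGrp, ← pgen_cj, hcj])
  obtain ⟨k, hk⟩ := hy
  have hR : IsPGroup p (zpowers y) := by
    obtain ⟨m, -, hm⟩ := (Nat.dvd_prime_pow (Fact.out : p.Prime)).1 (orderOf_dvd_of_pow_eq_one hk)
    exact IsPGroup.of_card (n := m) (by rw [Nat.card_zpowers, hm])
  have := le_of_normalizes P hP hR (zpowers_le.2 hyN) (mem_zpowers y)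
  exact hω (subset_fix_flatGrp O ⟨0, by simp; omega, by simp⟩ y this)

theorem bound (n : ℕ) : Bound.{u, v} p n := by
  induction n using Nat.strong_induction_on with
  | _ n IH =>
  intro G _ _ Ω _ _ htr hn h2 hgen P
  by_contra hneg
  rw [not_le] at hneg
  have hp2 : 2 ≤ p := (Fact.out : p.Prime).two_le
  have hnt : Nontrivial Ω := Finite.one_lt_card_iff_nontrivial.1 (by omega)
  have hUinv : ∀ K : Subgroup G, Inv K (Set.univ : Set Ω) := fun _ _ _ _ _ => trivial
  have hsig : ∀ Q : Sylow p G, sigma p (Q : Subgroup G) (Set.univ : Set Ω) < 0 := fun Q => by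
    rwa [sigma_indep (K := ⊤) Q P le_top le_top (hUinv _)]
  obtain ⟨x, -, hx⟩ : ((Set.univ : Set Ω) ∩ fixS (P : Subgroup G)).Nonempty := by
    rw [Set.nonempty_iff_ne_empty]
    intro h
    rw [sigma, h, Set.ncard_empty] at hneg
    have : (0 : ℤ) ≤ ((p : ℤ) - 1) * (Set.univ : Set Ω).ncard :=
      mul_nonneg (by omega) (Int.natCast_nonneg _)
    simp only [Nat.cast_zero, mul_zero, sub_zero] at hneg
    linarith
  have hnofix : ∀ a : Ω, a ∉ fixS (⊤ : Subgroup G) := by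
    intro a ha
    obtain ⟨b, hb⟩ := exists_ne a
    obtain ⟨g, hg⟩ := MulAction.exists_smul_eq G a b
    exact hb (by rw [← hg, ha g trivial])
  obtain ⟨g, hg, hgx⟩ : ∃ g : G, (∃ k : ℕ, g ^ p ^ k = 1) ∧ g • x ≠ x := by
    by_contra! hall
    apply hnofix x
    have : pgen p (⊤ : Subgroup G) ≤ MulAction.stabilizer G x :=
      (closure_le _).2 fun g hg => hall g hg.2
    exact fun g _ => this (by rw [hgen]; exact mem_top g)
  obtain ⟨y, hy, hyx, hyp⟩ := exists_cycle hg hgx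
  set O := (fun i : ℕ => y ^ i • x) '' Set.Iio p with hO
  have hOj : ¬ Joint p G O := not_joint_cycle hy hyx hyp
  have hOcard : O.ncard ≤ p := (Set.ncard_image_le (Set.toFinite _)).trans
    (by rw [← Finset.coe_Iio, Set.ncard_coe_finset, Nat.card_Iio])
  have htop := flatGrp_empty (p := p) (G := G) (Ω := Ω) hgen
  have hstart : Good p G O ∅ := by
    refine ⟨⟨P, htop.symm ▸ le_top⟩, Set.empty_subset _, fun γ hγ _ =>
      ⟨Set.univ, trivial, hUinv _, ?_, fun δ _ => ?_, fun Q _ => by simpa using hsig Q⟩⟩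
    · obtain ⟨g, rfl⟩ := MulAction.exists_smul_eq G x γ
      refine ⟨g • P, le_flatGrp (g • P).2 ?_⟩
      rw [insert_empty_eq, Set.singleton_subset_iff, coe_smul_cj, fixS_cj, inv_smul_smul]
      exact hx
    · obtain ⟨g, rfl⟩ := MulAction.exists_smul_eq G γ δ
      exact ⟨g, htop.symm ▸ mem_top g, flatGrp_insert_smul g (by simp) γ⟩
  have hall : ∀ t, t + 1 ≤ p → ∃ T : Set Ω, Good p G O T ∧ T.ncard = t := by
    intro t
    induction t with
    | zero => exact fun _ => ⟨∅, hstart, Set.ncard_empty _⟩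
    | succ t ih =>
      intro ht
      obtain ⟨T, hT, rfl⟩ := ih (by omega)
      exact good_step (fun m hm => IH m (hn ▸ hm)) hOj hT (by omega)
  obtain ⟨T, ⟨⟨P0, hP0⟩, hTO, hT⟩, hcard⟩ := hall (p - 1) (by omega)
  by_cases hc : ∀ γ ∈ O, γ ∈ fixS (flatGrp p G T)
  · exact hOj ⟨P0, hP0.trans (flatGrp_le_of_fix hc)⟩
  · push Not at hc
    obtain ⟨γ, hγO, hγ⟩ := hc
    obtain ⟨U, -, -, hj, -⟩ := hT γ hγO hγ
    have hγT : γ ∉ T := fun h => hγ (subset_fix_flatGrp T h)
    have : insert γ T = O := Set.eq_of_subset_of_ncard_le (Set.insert_subset hγO hTO) (by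
      rw [Set.ncard_insert_of_notMem hγT, hcard]; omega)
    exact hOj (this ▸ hj)

end CfsgLib.SylFix
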