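import Mathlib.GroupTheory.Sylow
import Mathlib.GroupTheory.GroupAction.FixingSubgroup
import Mathlib.Tactic

/-!
# Points fixed by a Sylow subgroup of a transitive group: preliminaries
-/

set_option autoImplicit false

namespace CfsgLib.SylFix

open Subgroup
open scoped Pointwise

universe u v

variable (p : ℕ) {G : Type u} [Group G] {Ω : Type v} [MulAction G Ω]

/-- The subgroup generated by the `p`-elements of `H`. -/
def pgen (H : Subgroup G) : Subgroup G := closure {g | g ∈ H ∧ ∃ k : ℕ, g ^ p ^ k = 1}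

/-- The `p`-elements fixing `T` generate this. -/
def flatGrp (G : Type u) [Group G] [MulAction G Ω] (T : Set Ω) : Subgroup G :=
  pgen p (fixingSubgroup G T)

/-- The points fixed by a subgroup. -/
def fixS (K : Subgroup G) : Set Ω := {ω | ∀ k ∈ K, k • ω = ω}

/-- The excess of a set of points over its share of fixed points. -/
noncomputable def sigma (P : Subgroup G) (S : Set Ω) : ℤ :=
  ((p : ℤ) - 1) * S.ncard - (2 * (p : ℤ) - 1) * (S ∩ fixS P).ncard

/-- The conjugate subgroup. -/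
def cj (k : G) (L : Subgroup G) : Subgroup G := L.map (MulAut.conj k).toMonoidHom

/-- Invariance of a set of points. -/
def Inv (K : Subgroup G) (S : Set Ω) : Prop := ∀ k ∈ K, ∀ s ∈ S, k • s ∈ S

variable {p}

theorem mem_cj {k g : G} {L : Subgroup G} : g ∈ cj k L ↔ k⁻¹ * g * k ∈ L := by
  rw [cj, mem_map_equiv, MulAut.conj_symm_apply]

theorem cj_mul (a b : G) (L : Subgroup G) : cj (a * b) L = cj a (cj b L) := by
  ext g; simp only [mem_cj, mul_inv_rev, mul_assoc]

theorem cj_one (L : Subgroup G) : cj 1 L = L := by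
  ext g; simp [mem_cj]

theorem card_cj (k : G) (L : Subgroup G) : Nat.card (cj k L) = Nat.card L :=
  card_map_of_injective (MulAut.conj k).injective

theorem mem_fixS {K : Subgroup G} {ω : Ω} : ω ∈ fixS K ↔ ∀ k ∈ K, k • ω = ω := Iff.rfl

theorem fixS_anti {K K' : Subgroup G} (h : K ≤ K') : (fixS K' : Set Ω) ⊆ fixS K :=
  fun _ hω k hk => hω k (h hk)

theorem fixS_cj (k : G) (L : Subgroup G) {ω : Ω} : ω ∈ fixS (cj k L) ↔ k⁻¹ • ω ∈ fixS L := by
  constructor
  · intro h l hl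
    have h1 := h (k * l * k⁻¹) (mem_cj.2 (by simpa [mul_assoc] using hl))
    rw [mul_smul, mul_smul] at h1
    exact smul_left_cancel k (by rw [h1, smul_inv_smul])
  · intro h g hg
    have h1 := h _ (mem_cj.1 hg)
    rw [mul_smul, mul_smul, smul_inv_smul] at h1
    exact smul_left_cancel k⁻¹ h1

theorem pgen_le (H : Subgroup G) : pgen p H ≤ H :=
  (closure_le H).2 fun _ hg => hg.1

theorem pgen_mono {H H' : Subgroup G} (h : H ≤ H') : pgen p H ≤ pgen p H' :=
  closure_mono fun _ hg => ⟨h hg.1, hg.2⟩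

theorem pgen_le_pgen {H H' : Subgroup G} (h : pgen p H ≤ H') : pgen p H ≤ pgen p H' :=
  closure_mono fun _ hg => ⟨h (subset_closure hg), hg.2⟩

theorem le_pgen {H R : Subgroup G} (hR : IsPGroup p R) (h : R ≤ H) : R ≤ pgen p H := by
  intro g hg
  obtain ⟨k, hk⟩ := hR ⟨g, hg⟩
  exact subset_closure ⟨h hg, k, congrArg Subtype.val hk⟩

theorem pgen_cj (k : G) (H : Subgroup G) : pgen p (cj k H) = cj k (pgen p H) := by
  rw [pgen, pgen, cj, cj, MonoidHom.map_closure]
  congr 1
  ext g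
  simp only [Set.mem_setOf_eq, Set.mem_image]
  constructor
  · rintro ⟨⟨a, ha, rfl⟩, j, hj⟩
    refine ⟨a, ⟨ha, j, ?_⟩, rfl⟩
    rw [← map_pow] at hj
    exact (MulAut.conj k).injective (hj.trans (map_one (MulAut.conj k)).symm)
  · rintro ⟨a, ⟨ha, j, hj⟩, rfl⟩
    exact ⟨⟨a, ha, rfl⟩, j, by rw [← map_pow, hj, map_one]⟩

theorem pgen_gen (H : Subgroup G) : pgen p (⊤ : Subgroup (pgen p H)) = ⊤ :=
  top_le_iff.1 (le_of_eq_of_le
    (Subgroup.closure_closure_coe_preimage (k := {g | g ∈ H ∧ ∃ k : ℕ, g ^ p ^ k = 1})).symm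
    (closure_mono fun _ hg => ⟨mem_top _, hg.2.imp fun _ hk => Subtype.ext ((SubgroupClass.coe_pow _ _).trans hk)⟩))

theorem flatGrp_le_fixing (T : Set Ω) : flatGrp p G T ≤ fixingSubgroup G T := pgen_le _

theorem subset_fix_flatGrp (T : Set Ω) : T ⊆ fixS (flatGrp p G T) := fun a ha _ hk =>
  (mem_fixingSubgroup_iff G).1 (flatGrp_le_fixing T hk) a ha

theorem flatGrp_anti {T T' : Set Ω} (h : T ⊆ T') : flatGrp p G T' ≤ flatGrp p G T :=
  pgen_mono fun _ hg => (mem_fixingSubgroup_iff G).2 fun a ha => (mem_fixingSubgroup_iff G).1 hg a (h ha)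

theorem flatGrp_le_of_fix {T T' : Set Ω} (h : T' ⊆ fixS (flatGrp p G T)) : flatGrp p G T ≤ flatGrp p G T' :=
  pgen_le_pgen fun _ hg => (mem_fixingSubgroup_iff G).2 fun a ha => h ha _ hg

theorem le_flatGrp {R : Subgroup G} (hR : IsPGroup p R) {T : Set Ω} (h : T ⊆ fixS R) :
    R ≤ flatGrp p G T :=
  le_pgen hR fun _ hg => (mem_fixingSubgroup_iff G).2 fun a ha => h ha _ hg

theorem flatGrp_empty (hgen : pgen p (⊤ : Subgroup G) = ⊤) : flatGrp p G (∅ : Set Ω) = ⊤ := by
  rw [flatGrp, fixingSubgroup_empty, hgen]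

theorem flatGrp_insert_smul (k : G) {T : Set Ω} (hT : ∀ a ∈ T, k • a = a) (δ : Ω) :
    flatGrp p G (insert (k • δ) T) = cj k (flatGrp p G (insert δ T)) := by
  rw [flatGrp, flatGrp, ← pgen_cj]
  congr 1
  ext g
  simp only [mem_cj, mem_fixingSubgroup_iff, Set.forall_mem_insert, mul_smul, inv_smul_eq_iff]
  refine and_congr_right fun _ => forall₂_congr fun a ha => ?_
  rw [hT a ha]

section finite

variable [Finite G] [Fact p.Prime]

theorem exists_conj_in {H : Subgroup G} (P P' : Sylow p G) (hP : (P : Subgroup G) ≤ H)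
    (hP' : (P' : Subgroup G) ≤ H) : ∃ h ∈ H, (P' : Subgroup G) = cj h P := by
  obtain ⟨h, hh⟩ := MulAction.exists_smul_eq H (P.subtype hP) (P'.subtype hP')
  refine ⟨h, h.2, ?_⟩
  ext g
  rw [mem_cj]
  constructor
  · intro hg
    have h1 : (⟨g, hP' hg⟩ : H) ∈ ((h • P.subtype hP : Sylow p H) : Subgroup H) := by
      rw [hh]; exact hg
    rw [Sylow.coe_subgroup_smul, Subgroup.mem_pointwise_smul_iff_inv_smul_mem] at h1
    simpa [MulAut.smul_def] using (show ((MulAut.conj h)⁻¹ • (⟨g, hP' hg⟩ : H) : H).1 ∈ (P : Subgroup G) from h1)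
  · intro hg
    have hgH : g ∈ H := by
      have := H.mul_mem (H.mul_mem h.2 (hP hg)) (H.inv_mem h.2)
      simpa [mul_assoc] using this
    have h1 : (⟨g, hgH⟩ : H) ∈ ((h • P.subtype hP : Sylow p H) : Subgroup H) := by
      rw [Sylow.coe_subgroup_smul, Subgroup.mem_pointwise_smul_iff_inv_smul_mem]
      show ((MulAut.conj h)⁻¹ • (⟨g, hgH⟩ : H) : H).1 ∈ (P : Subgroup G)
      simpa [MulAut.smul_def] using hg
    rw [hh] at h1
    exact h1

/-- A `p`-subgroup normalizing a subgroup of `p'`-index lies in it. -/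
theorem le_of_normalizes {H R : Subgroup G} (P : Sylow p G) (hP : (P : Subgroup G) ≤ H)
    (hR : IsPGroup p R) (hRH : R ≤ normalizer (H : Set G)) : R ≤ H := by
  obtain ⟨Q, hQ⟩ := (show IsPGroup p (R.subgroupOf (normalizer (H : Set G))) from
    hR.comap_subtype).exists_le_sylow
  obtain ⟨n, hn⟩ := MulAction.exists_smul_eq (normalizer (H : Set G))
    (P.subtype (hP.trans le_normalizer)) Q
  intro g hg
  have h1 : (⟨g, hRH hg⟩ : normalizer (H : Set G)) ∈ (Q : Subgroup _) := hQ hg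
  rw [← hn, Sylow.coe_subgroup_smul, Subgroup.mem_pointwise_smul_iff_inv_smul_mem] at h1
  have h2 : (n : G)⁻¹ * g * n ∈ H := hP (by
    simpa [MulAut.smul_def] using (show ((MulAut.conj n)⁻¹ • (⟨g, hRH hg⟩ : normalizer (H : Set G)) :
      normalizer (H : Set G)).1 ∈ (P : Subgroup G) from h1))
  have h3 := (mem_normalizer_iff.1 n.2 _).1 h2
  simpa [mul_assoc] using h3

variable [Finite Ω]

/-- The count does not depend on the Sylow subgroup. -/
theorem sigma_indep {K : Subgroup G} (P P' : Sylow p G) (hP : (P : Subgroup G) ≤ K)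
    (hP' : (P' : Subgroup G) ≤ K) {S : Set Ω} (hS : Inv K S) :
    sigma p (P : Subgroup G) S = sigma p (P' : Subgroup G) S := by
  obtain ⟨h, hh, e⟩ := exists_conj_in P P' hP hP'
  have himg : S ∩ fixS (P' : Subgroup G) = (fun ω => h • ω) '' (S ∩ fixS (P : Subgroup G)) := by
    ext ω
    rw [e]
    constructor
    · rintro ⟨hω, hfix⟩
      exact ⟨h⁻¹ • ω, ⟨hS _ (inv_mem hh) _ hω, (fixS_cj h _).1 hfix⟩, smul_inv_smul _ _⟩
    · rintro ⟨a, ⟨ha, hfix⟩, rfl⟩
      exact ⟨hS _ hh _ ha, (fixS_cj h _).2 (by rwa [inv_smul_smul])⟩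
  rw [sigma, sigma, himg, Set.ncard_image_of_injective _ (MulAction.injective h)]

theorem sigma_diff (P : Subgroup G) {S A : Set Ω} (hA : A ⊆ S) :
    sigma p P (S \ A) = sigma p P S - sigma p P A := by
  have h1 := Set.ncard_sdiff_add_ncard_of_subset hA
  have h2 := Set.ncard_sdiff_add_ncard_of_subset (Set.inter_subset_inter_left (fixS P) hA)
  have h3 : (S ∩ fixS P) \ (A ∩ fixS P) = (S \ A) ∩ fixS P := by
    ext ω; simp only [Set.mem_sdiff, Set.mem_inter_iff]; tauto
  rw [h3] at h2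
  simp only [sigma, ← h1, ← h2]
  push_cast
  ring

end finite

theorem Inv.diff {K : Subgroup G} {S A : Set Ω} (hS : Inv K S) (hA : Inv K A) : Inv K (S \ A) := by
  intro k hk s hs
  refine ⟨hS k hk s hs.1, fun h => hs.2 ?_⟩
  simpa using hA _ (inv_mem hk) _ h

theorem Inv.mono {K K' : Subgroup G} {S : Set Ω} (hS : Inv K S) (h : K' ≤ K) : Inv K' S :=
  fun k hk => hS k (h hk)

theorem inv_fixS (K : Subgroup G) : Inv K (fixS K : Set Ω) := fun k hk s hs => by
  rw [hs k hk]; exact hs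

end CfsgLib.SylFix
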